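import Cfsg.Agent.Mdx.Zip1

/-!
If `A < G` generates `G` by conjugates and the join of the proper subgroups `H = ⟨A^H⟩ ≥ A` is
proper, then `A` is in exactly one maximal subgroup.
-/

set_option autoImplicit false

namespace Cfsg.Agent.Mdx.ZL

open Subgroup

variable {G : Type*} [Group G]

/-- The standing hypotheses: `A` generates `G` by conjugates, `Y A ≠ ⊤`, larger subgroups satisfy
the theorem, `M` is a maximal subgroup containing `N_G(Y A)`. -/
structure Setup (A M : Subgroup G) : Prop where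
  gen : Gen A ⊤
  nt : A ≠ ⊤
  ih : ∀ B : Subgroup G, Nat.card A < Nat.card B → Gen B ⊤ → Y B ≠ ⊤ →
    ∀ M₁ M₂ : Subgroup G, IsCoatom M₁ → IsCoatom M₂ → B ≤ M₁ → B ≤ M₂ → M₁ = M₂
  coM : IsCoatom M
  hN : normalizer (Y A : Set G) ≤ M

theorem Gen.of_le_top {A B : Subgroup G} (h : Gen A ⊤) (hAB : A ≤ B) : Gen B ⊤ :=
  ⟨le_top, fun N hN hn hB => h.2 N hN hn (hAB.trans hB)⟩

variable {A M : Subgroup G} (S : Setup A M)

include S

theorem Setup.Y_le : Y A ≤ M := le_normalizer.trans S.hN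

theorem Setup.A_le : A ≤ M := (gen_Y S.nt).1.trans S.Y_le

theorem Setup.Y_ne : Y A ≠ ⊤ := by
  intro h
  apply S.coM.1
  rw [← top_le_iff, ← h]
  exact S.Y_le

theorem Setup.normalizer_le : normalizer (A : Set G) ≤ M := by
  refine le_trans ?_ S.hN
  intro g hg
  rw [mem_normalizer_iff_cj] at hg ⊢
  rw [← Y_cj, hg]

theorem Setup.cj (g : G) : Setup (ZL.cj g A) (ZL.cj g M) where
  gen := by
    have := S.gen.cj g
    rwa [cj_top] at this
  nt := cj_ne_top S.nt
  ih := by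
    rw [card_cj]
    exact S.ih
  coM := isCoatom_cj S.coM
  hN := by
    intro x hx
    rw [mem_normalizer_iff_cj, Y_cj] at hx
    rw [mem_cj]
    apply S.hN
    rw [mem_normalizer_iff_cj, cj_mul, cj_mul, hx, cj_inv_cj]

theorem Setup.normalizer_M : normalizer (M : Set G) = M := by
  rcases eq_or_lt_of_le (le_normalizer (H := M)) with h | h
  · exact h.symm
  · exfalso
    have h1 := S.coM.2 _ h
    apply S.coM.1
    refine S.gen.2 M le_top ?_ S.A_le
    intro d _ n hn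
    have : d ∈ normalizer (M : Set G) := by rw [h1]; trivial
    exact (mem_normalizer_iff.1 this n).1 hn

variable [Finite G]

/-- (1) -/
theorem Setup.sn {H : Subgroup G} (hAH : A ≤ H) (hH : H ≠ ⊤) (hHM : ¬ H ≤ M) : SN A H := by
  obtain ⟨K, hK, hHK⟩ := (eq_top_or_exists_le_coatom H).resolve_left hH
  have hKM : K ≠ M := by rintro rfl; exact hHM hHK
  obtain ⟨D, hD, hDH⟩ := exists_D hAH
  have hDt : D ≠ ⊤ := by
    intro h
    apply hH
    rw [← top_le_iff, ← h]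
    exact hDH.1
  have hDM : D ≤ M := (le_Y hD hDt).trans S.Y_le
  by_cases hAD : A = D
  · rw [hAD]; exact hDH
  · exfalso
    have h1 : A < D := lt_of_le_of_ne hD.1 hAD
    apply hKM
    refine S.ih D (H62.card_lt_of_lt h1) (S.gen.of_le_top hD.1) ?_ K M hK S.coM (hDH.1.trans hHK)
      hDM
    intro h
    apply S.Y_ne
    rw [← top_le_iff, ← h]
    exact Y_mono hD

/-- (2) -/
theorem Setup.cj_eq {K : Subgroup G} (hK : IsCoatom K) (hKM : K ≠ M) (hAK : A ≤ K) {m : G}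
    (hm : m ∈ M) (hmK : ZL.cj m A ≤ K) : ZL.cj m A = A := by
  by_contra hne
  set B := A ⊔ ZL.cj m A with hB
  have hAB : A < B := by
    rw [hB, left_lt_sup]
    intro h
    exact hne (cj_eq_of_le h)
  have hcjM : ZL.cj m A ≤ M := by
    have := cj_mono (g := m) S.A_le
    rwa [cj_of_mem hm] at this
  have hBM : B ≤ M := sup_le S.A_le hcjM
  apply hKM
  refine S.ih B (H62.card_lt_of_lt hAB) (S.gen.of_le_top hAB.le) ?_ K M hK S.coM
    (sup_le hAK hmK) hBM
  intro h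
  apply S.coM.1
  rw [← top_le_iff, ← h]
  apply sSup_le
  rintro H ⟨hH, hHt⟩
  obtain ⟨D₁, hD₁, hD₁H⟩ := exists_D (hAB.le.trans hH.1)
  obtain ⟨D₂, hD₂, hD₂H⟩ := exists_D ((le_sup_right : ZL.cj m A ≤ B).trans hH.1)
  have h1 : D₁ ⊔ D₂ = H := (hD₁H.sup hD₂H).eq_of_gen (sup_le_sup hD₁.1 hD₂.1) hH
  rw [← h1]
  apply sup_le
  · refine (le_Y hD₁ ?_).trans S.Y_le
    intro h; apply hHt; rw [← top_le_iff, ← h]; exact hD₁H.1
  · have h2 := hD₂.cj m⁻¹
    rw [cj_inv_cj] at h2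
    have h3 : D₂ ≠ ⊤ := by
      intro h; apply hHt; rw [← top_le_iff, ← h]; exact hD₂H.1
    have h4 := (le_Y h2 (cj_ne_top h3)).trans S.Y_le
    rw [← le_cj_iff, cj_of_mem hm] at h4
    exact h4

/-- (5) -/
theorem Setup.sn_cj {g : G} {H : Subgroup G} (hAH : ZL.cj g A ≤ H) (hH : H ≠ ⊤)
    (hHM : ¬ H ≤ ZL.cj g M) : SN (ZL.cj g A) H := (S.cj g).sn hAH hH hHM

/-- (4) -/
theorem Setup.pp {K : Subgroup G} (hK : IsCoatom K) (hKM : K ≠ M) (hAK : A ≤ K) {g : G}
    (hgM : ZL.cj g A ≤ M) (hgK : ZL.cj g A ≤ K) (hg : ZL.cj g A ≠ A) :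
    A ≤ ZL.cj g M ∧ ZL.cj g M ≠ M := by
  have hne : ZL.cj g M ≠ M := by
    intro h
    rw [← mem_normalizer_iff_cj, S.normalizer_M] at h
    exact hg (S.cj_eq hK hKM hAK h hgK)
  refine ⟨?_, hne⟩
  by_contra hA
  set B := A ⊔ ZL.cj g A with hB
  have hAB : A < B := by
    rw [hB, left_lt_sup]
    intro h
    exact hg (cj_eq_of_le h)
  have hBM : B ≤ M := sup_le S.A_le hgM
  apply hKM
  refine S.ih B (H62.card_lt_of_lt hAB) (S.gen.of_le_top hAB.le) ?_ K M hK S.coM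
    (sup_le hAK hgK) hBM
  intro h
  apply S.coM.1
  rw [← top_le_iff, ← h]
  apply sSup_le
  rintro H ⟨hH, hHt⟩
  by_contra hHM
  have h1 := S.sn (hAB.le.trans hH.1) hHt hHM
  have h2 := S.sn_cj ((le_sup_right : ZL.cj g A ≤ B).trans hH.1) hHt
    (fun h3 => hA ((hAB.le.trans hH.1).trans h3))
  have h3 : B = H := (h1.sup h2).eq_of_gen le_rfl hH
  exact hHM (h3 ▸ hBM)

/-- The conjugates of `A` in `R`. -/
def Del (A R : Subgroup G) : Set (Subgroup G) := {X | (∃ g, X = ZL.cj g A) ∧ X ≤ R}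

/-- Lemma β -/
theorem Setup.beta {K : Subgroup G} (hK : IsCoatom K) (hKM : K ≠ M) (hAK : A ≤ K)
    (hne : ∃ X ∈ Del A (M ⊓ K), X ≠ A)
    (hcond : ∀ t ∈ M, (∀ X ∈ Del A (M ⊓ K), ZL.cj t X ∈ Del A (M ⊓ K)) → t ∈ K) : False := by
  set J := sSup {X | X ∈ Del A (M ⊓ K) ∧ X ≠ A} with hJ
  have hJM : SN J M := by
    apply SN.sSup
    rintro X ⟨⟨⟨g, rfl⟩, hX⟩, hXA⟩
    have h1 := S.pp hK hKM hAK (hX.trans inf_le_left) (hX.trans inf_le_right) hXA
    refine S.sn_cj (hX.trans inf_le_left) S.coM.1 ?_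
    intro h
    have h2 : M = ZL.cj g M := by
      rcases eq_or_lt_of_le h with h3 | h3
      · exact h3
      · exact absurd (S.coM.2 _ h3) (cj_ne_top S.coM.1)
    exact h1.2 h2.symm
  have hJR : J ≤ M ⊓ K := sSup_le fun X hX => hX.1.2
  have h := hJM.chain hJR (by
    intro t ht htJ
    refine ⟨ht, ?_⟩
    have key : ∀ X ∈ Del A (M ⊓ K), X ≠ A → ZL.cj t X ∈ Del A (M ⊓ K) ∧ ZL.cj t X ≠ A := by
      rintro X ⟨⟨g, rfl⟩, hX⟩ hXA
      have hXJ : ZL.cj g A ≤ J := le_sSup ⟨⟨⟨g, rfl⟩, hX⟩, hXA⟩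
      refine ⟨⟨⟨t * g, by rw [cj_mul]⟩, (cj_mono hXJ).trans htJ⟩, ?_⟩
      intro h
      rw [cj_eq_iff] at h
      apply hXA
      rw [h]
      refine S.cj_eq hK hKM hAK (inv_mem ht) ?_
      rw [← h]
      exact hX.trans inf_le_right
    have hA : ZL.cj t A = A := by
      obtain ⟨X, hX, hXA⟩ := hne
      obtain ⟨g, rfl⟩ := hX.1
      have h1 := (S.pp hK hKM hAK (hX.2.trans inf_le_left) (hX.2.trans inf_le_right) hXA).1
      obtain ⟨h2, h3⟩ := key _ hX hXA
      rw [← cj_mul] at h2 h3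
      have h4 := S.pp hK hKM hAK (h2.2.trans inf_le_left) (h2.2.trans inf_le_right) h3
      refine S.cj_eq (isCoatom_cj S.coM) h4.2 h4.1 ht ?_
      rw [cj_mul]
      exact cj_mono h1
    apply hcond t ht
    intro X hX
    by_cases hXA : X = A
    · rw [hXA, hA]; rw [hXA] at hX; exact hX
    · exact (key X hX hXA).1)
  have h1 : M ≤ K := h.trans inf_le_right
  rcases eq_or_lt_of_le h1 with h2 | h2
  · exact hKM h2.symm
  · exact hK.1 (S.coM.2 _ h2)

omit S [Finite G] in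
theorem Del_cj (A R : Subgroup G) (g : G) : Del (cj g A) R = Del A R := by
  ext X
  constructor
  · rintro ⟨⟨h, rfl⟩, hX⟩
    exact ⟨⟨h * g, by rw [cj_mul]⟩, hX⟩
  · rintro ⟨⟨h, rfl⟩, hX⟩
    exact ⟨⟨h * g⁻¹, by rw [cj_mul, cj_inv_cj]⟩, hX⟩

theorem Setup.unique {K : Subgroup G} (hK : IsCoatom K) (hAK : A ≤ K) : K = M := by
  by_contra hKM
  -- choose `K` with `|M ⊓ K|` maximal
  obtain ⟨K, ⟨hK, hAK, hKM⟩, hmax⟩ := (Set.toFinite {K : Subgroup G | IsCoatom K ∧ A ≤ K ∧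
    K ≠ M}).exists_maximalFor (fun K => Nat.card (M ⊓ K : Subgroup G)) _ ⟨K, hK, hAK, hKM⟩
  set R := M ⊓ K with hR
  set B := sSup (Del A R) with hB
  have hAR : A ≤ R := le_inf S.A_le hAK
  have hAΔ : A ∈ Del A R := ⟨⟨1, (cj_one A).symm⟩, hAR⟩
  have hAB : A ≤ B := le_sSup hAΔ
  have hBR : B ≤ R := sSup_le fun X hX => hX.2
  have hnorm : ∀ t : G, (∀ X ∈ Del A R, ZL.cj t X ∈ Del A R) → t ∈ normalizer (B : Set G) := by
    intro t ht
    rw [mem_normalizer_iff_cj]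
    apply cj_eq_of_le
    rw [cj_le_iff]
    apply sSup_le
    intro X hX
    rw [← cj_le_iff]
    exact le_sSup (ht X hX)
  have hRB : R ≤ normalizer (B : Set G) := by
    intro r hr
    apply hnorm
    rintro X ⟨⟨g, rfl⟩, hX⟩
    refine ⟨⟨r * g, by rw [cj_mul]⟩, ?_⟩
    have := cj_mono (g := r) hX
    rwa [cj_of_mem hr] at this
  by_cases h1 : normalizer (B : Set G) ≤ M
  · by_cases h2 : ∃ g, ZL.cj g A ≤ R ∧ ZL.cj g M = K
    · -- case 2b
      obtain ⟨g, hgR, hgM⟩ := h2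
      have hKM' : K ⊓ M = R := inf_comm _ _
      refine (S.cj g).beta (K := M) S.coM (by rw [hgM]; exact Ne.symm hKM)
        (hgR.trans inf_le_left) ?_ ?_
      · rw [Del_cj, hgM, hKM']
        refine ⟨A, hAΔ, ?_⟩
        intro h
        have h3 := S.normalizer_le (mem_normalizer_iff_cj.2 h.symm)
        rw [cj_of_mem h3] at hgM
        exact hKM hgM.symm
      · rw [Del_cj, hgM, hKM']
        intro t _ ht
        exact h1 (hnorm t ht)
    · -- case 2a
      push Not at h2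
      have hBK : SN B K := by
        apply SN.sSup
        rintro X ⟨⟨g, rfl⟩, hX⟩
        refine S.sn_cj (hX.trans inf_le_right) hK.1 ?_
        intro h
        rcases eq_or_lt_of_le h with h3 | h3
        · exact h2 g hX h3.symm
        · exact cj_ne_top S.coM.1 (hK.2 _ h3)
      have h3 := hBK.chain (R := R) hBR (by
        intro k hk hkB
        refine ⟨h1 (hnorm k ?_), hk⟩
        rintro X ⟨⟨g, rfl⟩, hX⟩
        have hXB : ZL.cj g A ≤ B := le_sSup ⟨⟨g, rfl⟩, hX⟩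
        exact ⟨⟨k * g, by rw [cj_mul]⟩, (cj_mono hXB).trans hkB⟩)
      have h4 : K ≤ M := h3.trans inf_le_left
      rcases eq_or_lt_of_le h4 with h5 | h5
      · exact hKM h5
      · exact S.coM.1 (hK.2 _ h5)
  · -- case 1
    have hBt : normalizer (B : Set G) ≠ ⊤ := by
      intro h
      have h2 := S.gen.2 B le_top (by
        intro d _ n hn
        have : d ∈ normalizer (B : Set G) := by rw [h]; trivial
        exact (mem_normalizer_iff.1 this n).1 hn) hAB
      apply S.coM.1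
      rw [← top_le_iff, ← h2]
      exact hBR.trans inf_le_left
    obtain ⟨L, hL, hBL⟩ := (eq_top_or_exists_le_coatom (normalizer (B : Set G))).resolve_left hBt
    have hLM : L ≠ M := by rintro rfl; exact h1 hBL
    have hAL : A ≤ L := (hAB.trans le_normalizer).trans hBL
    have hRL : R ≤ M ⊓ L := le_inf inf_le_left (hRB.trans hBL)
    have hcard : Nat.card (M ⊓ L : Subgroup G) ≤ Nat.card R := by
      have h2 : Nat.card R ≤ Nat.card (M ⊓ L : Subgroup G) := card_le_of_le hRL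
      exact hmax ⟨hL, hAL, hLM⟩ h2
    have hRL' : R = M ⊓ L := eq_of_le_of_card_ge hRL hcard
    refine S.beta hK hKM hAK ?_ ?_
    · by_contra h
      push Not at h
      apply h1
      have h2 : B = A := by
        apply le_antisymm _ hAB
        apply sSup_le
        intro X hX
        exact (h X hX).le
      rw [h2]
      exact S.normalizer_le
    · intro t ht htΔ
      have h2 : t ∈ M ⊓ L := ⟨ht, hBL (hnorm t htΔ)⟩
      rw [← hRL'] at h2
      exact h2.2

omit S in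
theorem main_aux (n : ℕ) : ∀ A : Subgroup G, Nat.card G - Nat.card A ≤ n → Gen A ⊤ → Y A ≠ ⊤ →
    ∀ M₁ M₂ : Subgroup G, IsCoatom M₁ → IsCoatom M₂ → A ≤ M₁ → A ≤ M₂ → M₁ = M₂ := by
  induction n with
  | zero =>
    intro A hA _ _ M₁ M₂ h1 _ hA1 _
    exfalso
    have h2 : A = ⊤ := eq_top_of_le_card A (by omega)
    rw [h2, top_le_iff] at hA1
    exact h1.1 hA1
  | succ n ih =>
    intro A hA hgen hY M₁ M₂ h1 h2 hA1 hA2
    have hAt : A ≠ ⊤ := by
      rintro rfl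
      exact h1.1 (top_le_iff.1 hA1)
    have hYn : normalizer (Y A : Set G) ≠ ⊤ := by
      intro h
      apply hY
      refine hgen.2 _ le_top ?_ (gen_Y hAt).1
      intro d _ m hm
      have : d ∈ normalizer (Y A : Set G) := by rw [h]; trivial
      exact (mem_normalizer_iff.1 this m).1 hm
    obtain ⟨M, hM, hYM⟩ := (eq_top_or_exists_le_coatom (normalizer (Y A : Set G))).resolve_left hYn
    have S : Setup A M := ⟨hgen, hAt, fun B hAB hB hYB => ih B (by
      have := Subgroup.card_le_card_group B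
      omega) hB hYB, hM, hYM⟩
    rw [S.unique h1 hA1, S.unique h2 hA2]

omit S in
theorem main (A : Subgroup G) (hA : normalClosure (A : Set G) = ⊤) (hAG : A ≠ ⊤) :
    sSup {H : Subgroup G | A ≤ H ∧ H ≠ ⊤ ∧
      normalClosure ((A.subgroupOf H : Subgroup ↥H) : Set ↥H) = ⊤} = ⊤ ∨
      ∃! M : Subgroup G, IsCoatom M ∧ A ≤ M := by
  have e : {H : Subgroup G | A ≤ H ∧ H ≠ ⊤ ∧
      normalClosure ((A.subgroupOf H : Subgroup ↥H) : Set ↥H) = ⊤} = Sig A := by
    ext H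
    rw [Sig, Set.mem_setOf_eq, Set.mem_setOf_eq, gen_iff]
    tauto
  rw [e]
  by_cases hY : Y A = ⊤
  · exact Or.inl hY
  right
  have hgen : Gen A ⊤ := by
    refine ⟨le_top, fun N _ hn hAN => ?_⟩
    have hNn : N.Normal := ⟨fun x hx g => hn g (mem_top g) x hx⟩
    have h1 : normalClosure (A : Set G) ≤ N := normalClosure_le_normal hAN
    rw [hA, top_le_iff] at h1
    exact h1
  obtain ⟨M, hM, hAM⟩ := (eq_top_or_exists_le_coatom A).resolve_left hAG
  exact ⟨M, ⟨hM, hAM⟩, fun K hK => main_aux _ A le_rfl hgen hY K M hK.1 hM hK.2 hAM⟩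

end Cfsg.Agent.Mdx.ZL
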