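import Cfsg.Agent.H49.Isolated
import Cfsg.Agent.Solv.Core

/-!
Minimal counterexamples to the `Z*_p` statement.
-/

set_option autoImplicit false

namespace Cfsg.Agent.Mdx.ZP

open Subgroup Cfsg

variable {G : Type*} [Group G] [Finite G] {p : ℕ} [hp : Fact p.Prime]

theorem isPGroup_of_central (hO : pPrimeCore p G = ⊥) {N : Subgroup G}
    (hN : N ≤ center G) : IsPGroup p N := by
  have key : ∀ q : ℕ, q.Prime → q ∣ Nat.card N → q = p := by
    intro q hq hqN
    haveI := Fact.mk hq
    obtain ⟨n, hn⟩ := exists_prime_orderOf_dvd_card' q hqN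
    by_contra hne
    have h1 : (zpowers (n : G)).Normal := by
      constructor
      intro y hy g
      have : y ∈ center G := (zpowers_le.2 (hN n.2)) hy
      rw [mem_center_iff.1 this g, mul_inv_cancel_right]
      exact hy
    have h2 : zpowers (n : G) ≤ pPrimeCore p G := by
      refine Solv.le_pPrimeCore h1 ?_
      rw [Nat.card_zpowers, orderOf_coe, hn]
      exact (Nat.coprime_primes hq hp.out).2 hne
    rw [hO, le_bot_iff, zpowers_eq_bot] at h2
    have h3 : n = 1 := Subtype.ext h2
    rw [h3, orderOf_one] at hn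
    exact hq.one_lt.ne hn
  rw [IsPGroup.iff_card]
  exact ⟨_, Nat.eq_prime_pow_of_unique_prime_dvd Nat.card_pos.ne'
    (fun {d} hd hd2 => key d hd hd2)⟩

theorem core_quot_central (hO : pPrimeCore p G = ⊥) {N : Subgroup G} [hNn : N.Normal]
    (hN : N ≤ center G) : pPrimeCore p (G ⧸ N) = ⊥ := by
  set K := (pPrimeCore p (G ⧸ N)).comap (QuotientGroup.mk' N) with hK
  have hKn : K.Normal := inferInstance
  have hNK : N ≤ K := by
    intro n hn
    rw [hK, mem_comap, QuotientGroup.mk'_apply, (QuotientGroup.eq_one_iff n).2 hn]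
    exact one_mem _
  have hmap : K.map (QuotientGroup.mk' N) = pPrimeCore p (G ⧸ N) :=
    map_comap_eq_self_of_surjective (QuotientGroup.mk'_surjective _) _
  have hrel : N.relIndex K = Nat.card (pPrimeCore p (G ⧸ N)) := by
    rw [← hmap, ← relIndex_ker, QuotientGroup.ker_mk']
  have hcop : (N.relIndex K).Coprime p := by rw [hrel]; exact Solv.pPrimeCore_card_coprime p
  obtain ⟨k, hk⟩ := IsPGroup.iff_card.1 (isPGroup_of_central hO hN)
  have hcN : Nat.card (N.subgroupOf K) = p ^ k := by
    rw [Nat.card_congr (subgroupOfEquivOfLe hNK).toEquiv, hk]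
  have hcop2 : Nat.Coprime (Nat.card (N.subgroupOf K)) (N.subgroupOf K).index := by
    rw [hcN]
    exact (Nat.Coprime.pow_right k hcop).symm
  obtain ⟨H, hH⟩ := exists_right_complement'_of_coprime hcop2
  have hHn : H.Normal := by
    constructor
    intro h hh g
    obtain ⟨⟨n, h'⟩, hnh⟩ := hH.surjective g
    have hc : ∀ y : K, (n : K) * y = y * n := by
      intro y
      have h1 : ((n : K) : G) ∈ center G := hN n.2
      exact Subtype.ext (mem_center_iff.1 h1 y).symm
    have e : g * h * g⁻¹ = h' * h * (h' : K)⁻¹ := by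
      rw [← hnh]
      change (n : K) * h' * h * ((n : K) * h')⁻¹ = _
      rw [mul_inv_rev]
      calc (n : K) * h' * h * ((h' : K)⁻¹ * (n : K)⁻¹)
          = ((n : K) * (h' * h * (h' : K)⁻¹)) * (n : K)⁻¹ := by group
        _ = _ := by rw [hc]; group
    rw [e]
    exact mul_mem (mul_mem h'.2 hh) (inv_mem h'.2)
  have hHc : Nat.card H = N.relIndex K := by
    have h1 := hH.symm.index_eq_card
    exact h1.symm
  have hle : H ≤ pPrimeCore p K := Solv.le_pPrimeCore hHn (by rw [hHc]; exact hcop)
  have hbot : pPrimeCore p K = ⊥ := by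
    have h1 := Solv.map_subtype_pPrimeCore_le (G := G) p K
    rwa [hO, le_bot_iff, map_eq_bot_iff_of_injective _ K.subtype_injective] at h1
  rw [hbot, le_bot_iff] at hle
  rw [hle, card_bot, hrel] at hHc
  exact card_eq_one.1 hHc.symm

variable {x : G} (hx : orderOf x = p) (hiso : IsIsolated x) (hnz : ¬ InZStar p x)
  (hmin : ∀ (H : Subgroup G) (hxH : x ∈ H), H ≠ ⊤ → InZStar p (⟨x, hxH⟩ : ↥H))
  (hquot : ∀ (N : Subgroup G) [N.Normal], N ≠ ⊥ → InZStar p (QuotientGroup.mk x : G ⧸ N))

include hx in
theorem ppow : ∃ k : ℕ, orderOf x = p ^ k := ⟨1, by rw [hx, pow_one]⟩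

omit hp in
include hnz hquot in
theorem core_bot : pPrimeCore p G = ⊥ := by
  by_contra hne
  apply hnz
  intro g
  have h1 := hquot (pPrimeCore p G) hne (QuotientGroup.mk g)
  rw [Solv.pPrimeCore_quotient_pPrimeCore, mem_bot] at h1
  rw [← QuotientGroup.eq_one_iff]
  exact h1

include hiso in
omit [Finite G] in
theorem commute_of_central_comm {g : G} (h : Commute x (g * x * g⁻¹ * x⁻¹)) :
    g * x * g⁻¹ = x := by
  apply hiso
  have h1 : Commute x (g * x * g⁻¹ * x⁻¹ * x) := h.mul_right (Commute.refl x)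
  rwa [inv_mul_cancel_right] at h1

omit [Finite G] in
theorem inZStar_of_central (h : ∀ g : G, g * x * g⁻¹ = x) : InZStar p x := by
  intro g
  rw [h g, mul_inv_cancel]
  exact one_mem _

include hmin in
theorem centralizes (hO : pPrimeCore p G = ⊥) {N : Subgroup G} [hN : N.Normal]
    (hne : N ⊔ zpowers x ≠ ⊤) : ∀ n ∈ N, n * x = x * n := by
  set H := N ⊔ zpowers x with hH
  have hxH : x ∈ H := mem_sup_right (mem_zpowers x)
  have hNH : N ≤ H := le_sup_left
  have hz := hmin H hxH hne
  set C := (pPrimeCore p H).map H.subtype with hC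
  have hCN : C ⊓ N = ⊥ := by
    have h1 : ((C ⊓ N).subgroupOf N).Normal := by
      constructor
      intro y hy n
      rw [mem_subgroupOf, mem_inf] at hy ⊢
      refine ⟨?_, (n * y * n⁻¹).2⟩
      obtain ⟨c, hc, hcy⟩ := hy.1
      have h2 : (⟨n, hNH n.2⟩ : H) * c * (⟨n, hNH n.2⟩ : H)⁻¹ ∈ pPrimeCore p H :=
        Normal.conj_mem inferInstance c hc _
      refine ⟨_, h2, ?_⟩
      rw [map_mul, map_mul, map_inv, hcy]
      rfl
    have h2 : (Nat.card ((C ⊓ N).subgroupOf N)).Coprime p := by
      rw [Nat.card_congr (subgroupOfEquivOfLe inf_le_right).toEquiv]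
      have h3 : Nat.card (C ⊓ N : Subgroup G) ∣ Nat.card C := card_dvd_of_le inf_le_left
      refine Nat.Coprime.coprime_dvd_left h3 ?_
      rw [hC, card_map_of_injective H.subtype_injective]
      exact Solv.pPrimeCore_card_coprime p
    have h3 := Solv.le_pPrimeCore h1 h2
    have h4 := Solv.map_subtype_pPrimeCore_le (G := G) p N
    rw [hO, le_bot_iff, map_eq_bot_iff_of_injective _ N.subtype_injective] at h4
    rw [h4, le_bot_iff, subgroupOf_eq_bot] at h3
    rw [eq_bot_iff]
    intro y hy
    exact disjoint_def.1 h3 hy hy.2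
  intro n hn
  have h1 : n * x * n⁻¹ * x⁻¹ ∈ C ⊓ N := by
    refine ⟨⟨_, hz ⟨n, hNH hn⟩, rfl⟩, ?_⟩
    have h2 : x * n⁻¹ * x⁻¹ ∈ N := hN.conj_mem _ (inv_mem hn) x
    have h3 := mul_mem hn h2
    rwa [show n * (x * n⁻¹ * x⁻¹) = n * x * n⁻¹ * x⁻¹ by group] at h3
  rw [hCN, mem_bot] at h1
  rw [mul_inv_eq_one, mul_inv_eq_iff_eq_mul] at h1
  exact h1

include hx hiso hnz hmin hquot in
/-- Every nontrivial normal subgroup together with `x` generates `G`. -/
theorem sup_eq_top {N : Subgroup G} [hN : N.Normal] (hN1 : N ≠ ⊥) : N ⊔ zpowers x = ⊤ := by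
  by_contra hne
  have hO := core_bot hnz hquot
  have hcent := centralizes hmin hO hne
  set C := centralizer (N : Set G) with hC
  have hxC : x ∈ C := by
    rw [hC, mem_centralizer_iff]
    exact hcent
  have hCn : C.Normal := inferInstance
  by_cases hCt : C = ⊤
  · have hNz : N ≤ center G := by
      intro n hn
      rw [mem_center_iff]
      intro g
      have : g ∈ C := by rw [hCt]; trivial
      rw [hC, mem_centralizer_iff] at this
      exact (this n hn).symm
    have h1 := core_quot_central hO hNz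
    apply hnz
    apply inZStar_of_central
    intro g
    apply commute_of_central_comm hiso
    have h2 := hquot N hN1 (QuotientGroup.mk g)
    rw [h1, mem_bot] at h2
    have h3 : g * x * g⁻¹ * x⁻¹ ∈ N := by
      rw [← QuotientGroup.eq_one_iff]; exact h2
    exact mem_center_iff.1 (hNz h3) x
  · have hCx : C ⊔ zpowers x = C := sup_eq_left.2 (zpowers_le.2 hxC)
    have h1 := centralizes hmin hO (N := C) (by rw [hCx]; exact hCt)
    apply hnz
    apply inZStar_of_central
    intro g
    apply hiso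
    exact (h1 _ (hCn.conj_mem x hxC g)).symm

include hx hiso hnz in
theorem not_isPGroup (h : IsPGroup p G) : False := by
  apply hnz
  apply inZStar_of_central
  intro g
  have h1 := H49.isolated_commute_of_mem_pGroup hiso (R := ⊤) (h.to_subgroup ⊤) (mem_top x)
    (mem_top g)
  rw [← h1.eq, mul_inv_cancel_right]

include hx hiso hnz hmin hquot in
theorem comm_le {M : Subgroup G} [hM : M.Normal] (hM1 : M ≠ ⊥) : _root_.commutator G ≤ M := by
  have h1 := sup_eq_top hx hiso hnz hmin hquot hM1
  have hcyc : ∀ g : G, ∃ k : ℤ, (QuotientGroup.mk g : G ⧸ M) = (QuotientGroup.mk x : G ⧸ M) ^ k := by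
    intro g
    have hg : g ∈ M ⊔ zpowers x := by rw [h1]; trivial
    rw [mem_sup_of_normal_left] at hg
    obtain ⟨m, hm, z, ⟨k, rfl⟩, rfl⟩ := hg
    refine ⟨k, ?_⟩
    rw [QuotientGroup.mk_mul, (QuotientGroup.eq_one_iff m).2 hm, one_mul]
    rfl
  rw [_root_.commutator_def, Subgroup.commutator_le]
  intro a _ b _
  obtain ⟨k, hk⟩ := hcyc a
  obtain ⟨l, hl⟩ := hcyc b
  rw [← QuotientGroup.eq_one_iff, commutatorElement_def]
  simp only [QuotientGroup.mk_mul, QuotientGroup.mk_inv, hk, hl]
  rw [← zpow_add, add_comm, zpow_add]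
  group

include hx hiso hnz hmin hquot in
theorem commutator_ne_bot : commutator G ≠ ⊥ := by
  intro h
  apply hnz
  apply inZStar_of_central
  intro g
  have h1 : g * x * g⁻¹ * x⁻¹ ∈ _root_.commutator G :=
    Subgroup.commutator_mem_commutator (mem_top g) (mem_top x)
  rw [h, mem_bot, mul_inv_eq_one] at h1
  exact h1

include hx hiso hnz hmin hquot in
theorem sup_commutator : commutator G ⊔ zpowers x = ⊤ :=
  sup_eq_top hx hiso hnz hmin hquot (commutator_ne_bot hx hiso hnz hmin hquot)

include hx hiso hnz hmin hquot in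
theorem not_comm : ¬ IsMulCommutative ↥(commutator G) := by
  intro hc
  have hO := core_bot hnz hquot
  have h1 := Solv.map_subtype_pPrimeCore_le (G := G) p (commutator G)
  rw [hO, le_bot_iff, map_eq_bot_iff_of_injective _ (commutator G).subtype_injective] at h1
  have h2 : IsPGroup p (⊤ : Subgroup (commutator G)) := isPGroup_of_central h1 (by
    intro a _
    rw [mem_center_iff]
    intro b
    exact hc.1.1 b a)
  have h3 : IsPGroup p (commutator G) := h2.of_equiv topEquiv
  have h4 : IsPGroup p (zpowers x) := H49.isPGroup_zpowers (ppow hx)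
  have h5 : IsPGroup p (commutator G ⊔ zpowers x : Subgroup G) := h3.to_sup_of_normal_left h4
  rw [sup_commutator hx hiso hnz hmin hquot] at h5
  exact not_isPGroup hx hiso hnz (h5.of_equiv topEquiv)

include hx hiso hnz hmin hquot in
theorem minimal_top {N : Subgroup G} (hN : N = _root_.commutator G) [hNn : N.Normal]
    {M₀ : Subgroup N} [hM₀ : M₀.Normal] (h1 : M₀ ≠ ⊥)
    (hmn : ∀ K : Subgroup N, K.Normal → K ≠ ⊥ → K ≤ M₀ → K = M₀) : M₀ = ⊤ := by
  set M := M₀.map N.subtype with hM
  have hMN : M ≤ N := map_subtype_le _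
  have hconj : ∀ n ∈ N, ∀ m ∈ M, n * m * n⁻¹ ∈ M := by
    rintro n hn _ ⟨m, hm, rfl⟩
    exact ⟨⟨n, hn⟩ * m * (⟨n, hn⟩ : N)⁻¹, hM₀.conj_mem m hm _, rfl⟩
  have hMsub : M.subgroupOf N = M₀ := by
    rw [hM]; exact comap_map_eq_self_of_injective N.subtype_injective _
  set K := M ⊓ M.map (MulAut.conj x).toMonoidHom with hK
  have hKn : (K.subgroupOf N).Normal := by
    constructor
    intro k hk n
    rw [mem_subgroupOf] at hk ⊢
    obtain ⟨hk1, m, hm, hmk⟩ := hk
    refine ⟨hconj n n.2 _ hk1, ?_⟩
    have hxn : x⁻¹ * (n : G) * x ∈ N := by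
      simpa using hNn.conj_mem _ n.2 x⁻¹
    refine ⟨(x⁻¹ * n * x) * m * (x⁻¹ * n * x)⁻¹, hconj _ hxn _ hm, ?_⟩
    have hmk' : x * m * x⁻¹ = (k : G) := hmk
    change x * ((x⁻¹ * n * x) * m * (x⁻¹ * n * x)⁻¹) * x⁻¹ = n * k * (n : G)⁻¹
    rw [← hmk']
    group
  have hKM : K.subgroupOf N ≤ M₀ := by
    rw [← hMsub]
    exact comap_mono inf_le_left
  by_cases hK0 : K = ⊥
  · exfalso
    have hcop : (Nat.card M).Coprime p := by
      rw [Nat.coprime_comm, hp.out.coprime_iff_not_dvd]
      intro hdvd
      obtain ⟨y, hy⟩ := exists_prime_orderOf_dvd_card' p hdvd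
      have hyp : IsPGroup p (zpowers (y : G)) := H49.isPGroup_zpowers ⟨1, by
        rw [orderOf_coe, hy, pow_one]⟩
      obtain ⟨P, hP⟩ := (H49.isPGroup_zpowers (ppow hx)).exists_le_sylow
      have hxP : x ∈ (P : Subgroup G) := hP (mem_zpowers x)
      obtain ⟨P', hP'⟩ := hyp.exists_le_sylow
      obtain ⟨g, hg⟩ := MulAction.exists_smul_eq G P P'
      have hgt : g ∈ N ⊔ zpowers x := by
        rw [hN, sup_commutator hx hiso hnz hmin hquot]; trivial
      rw [mem_sup_of_normal_left] at hgt
      obtain ⟨n, hn, z, hz, rfl⟩ := hgt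
      have hzP : z ∈ (P : Subgroup G) := (zpowers_le.2 hxP) hz
      have hy1 : (y : G) ∈ (P' : Subgroup G) := hP' (mem_zpowers _)
      rw [← hg, Sylow.coe_subgroup_smul, mem_pointwise_smul_iff_inv_smul_mem] at hy1
      have hy2 : (n * z)⁻¹ * y * (n * z) ∈ (P : Subgroup G) := by
        simpa [mul_assoc] using hy1
      have hy3 : n⁻¹ * y * n ∈ (P : Subgroup G) := by
        have := mul_mem (mul_mem hzP hy2) (inv_mem hzP)
        rwa [show z * ((n * z)⁻¹ * (y : G) * (n * z)) * z⁻¹ = n⁻¹ * y * n by group] at this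
      have hy4 : n⁻¹ * y * n ∈ M := by
        have := hconj n⁻¹ (inv_mem hn) y y.2
        rwa [inv_inv] at this
      have hcomm := H49.isolated_commute_of_mem_pGroup hiso P.2 hxP hy3
      have hy5 : n⁻¹ * y * n ∈ K := by
        refine ⟨hy4, _, hy4, ?_⟩
        change x * (n⁻¹ * y * n) * x⁻¹ = _
        rw [hcomm.eq, mul_inv_cancel_right]
      rw [hK0, mem_bot] at hy5
      have hy6 : (y : G) = 1 := by
        have : (y : G) = n * (n⁻¹ * y * n) * n⁻¹ := by group
        rw [this, hy5]; group
      have hy7 : y = 1 := Subtype.ext hy6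
      rw [hy7, orderOf_one] at hy
      exact hp.out.one_lt.ne hy
    have h2 : (Nat.card M₀).Coprime p := by
      rwa [hM, card_map_of_injective N.subtype_injective] at hcop
    have h3 := Solv.le_pPrimeCore hM₀ h2
    have h4 := Solv.map_subtype_pPrimeCore_le (G := G) p N
    rw [core_bot hnz hquot, le_bot_iff, map_eq_bot_iff_of_injective _ N.subtype_injective] at h4
    rw [h4, le_bot_iff] at h3
    exact h1 h3
  · have hK1 : K.subgroupOf N ≠ ⊥ := by
      intro h
      apply hK0
      rw [subgroupOf_eq_bot] at h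
      rw [eq_bot_iff]
      intro y hy
      exact disjoint_def.1 h hy (hMN hy.1)
    have h2 := hmn _ hKn hK1 hKM
    have h3 : M ≤ K := by
      intro m hm
      have : (⟨m, hMN hm⟩ : N) ∈ M₀ := by rw [← hMsub]; exact hm
      rw [← h2] at this
      exact this
    have h4 : M ≤ M.map (MulAut.conj x).toMonoidHom := h3.trans inf_le_right
    have h5 : M = M.map (MulAut.conj x).toMonoidHom := by
      apply eq_of_le_of_card_ge h4
      exact (card_map_of_injective (MulAut.conj x).injective).le
    have hnorm : normalizer (M : Set G) = ⊤ := by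
      rw [eq_top_iff, ← sup_commutator hx hiso hnz hmin hquot, ← hN, sup_le_iff]
      constructor
      · intro n hn
        rw [mem_normalizer_iff]
        intro m
        refine ⟨hconj n hn m, fun h => ?_⟩
        have := hconj n⁻¹ (inv_mem hn) _ h
        rwa [show n⁻¹ * (n * m * n⁻¹) * n⁻¹⁻¹ = m by group] at this
      · rw [zpowers_le, mem_normalizer_iff]
        intro m
        constructor
        · intro hm
          rw [h5]
          exact ⟨m, hm, rfl⟩
        · intro hm
          rw [h5] at hm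
          obtain ⟨m', hm', e⟩ := hm
          have e' : x * m' * x⁻¹ = x * m * x⁻¹ := e
          have : m' = m := by
            have := mul_left_cancel (mul_right_cancel e')
            exact this
          rwa [← this]
    have hMn : M.Normal := normalizer_eq_top_iff.1 hnorm
    have hM1 : M ≠ ⊥ := by
      intro h
      rw [hM, map_eq_bot_iff_of_injective _ N.subtype_injective] at h
      exact h1 h
    have h6 := comm_le hx hiso hnz hmin hquot hM1
    rw [← hN] at h6
    rw [eq_top_iff]
    intro n _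
    rw [← hMsub]
    exact h6 n.2

include hx hiso hnz hmin hquot in
theorem simple : IsSimpleGroup ↥(commutator G) := by
  haveI : Nontrivial ↥(commutator G) := by
    rw [nontrivial_iff_ne_bot]
    exact commutator_ne_bot hx hiso hnz hmin hquot
  refine ⟨fun H hH => ?_⟩
  by_cases h : H = ⊥
  · exact Or.inl h
  · right
    obtain ⟨M, hMn, hMH, hM1, hM⟩ := Solv.exists_minimal_normal H hH h
    have := hMn
    have h2 := minimal_top hx hiso hnz hmin hquot rfl hM1 (fun K hK hK1 hKM =>
      (hM K hK hKM).resolve_left hK1)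
    rw [h2] at hMH
    exact top_le_iff.1 hMH

end Cfsg.Agent.Mdx.ZP
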