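import Cfsg.Agent.BT.FcDef
import Cfsg.Agent.Cop.Basic
import Cfsg.Agent.Solv.MinNormal
import Cfsg.Agent.H67.ConjCover

/-!
# S4146, piece C2: Sylow tools
-/

set_option autoImplicit false

namespace Cfsg.Agent.Mdx.FcC2

open Cfsg.Agent.H35.CR Cfsg.Agent.BT.Fc Cfsg
open scoped Pointwise

universe u

variable {G : Type u} [Group G] [Finite G]

/-- `r`-valuation of the order of a subgroup -/
noncomputable def v (r : ℕ) (H : Subgroup G) : ℕ := (Nat.card H).factorization r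

/-- `S` is a Sylow `p`-subgroup of `H` -/
structure Sy (p : ℕ) (S H : Subgroup G) : Prop where
  le : S ≤ H
  pg : IsPGroup p S
  card : Nat.card S = p ^ v p H

theorem Sy.exists_ge {p : ℕ} [hp : Fact p.Prime] {T H : Subgroup G} (hT : T ≤ H) (hTp : IsPGroup p T) :
    ∃ S, T ≤ S ∧ Sy p S H := by
  have h1 : IsPGroup p (T.subgroupOf H) := hTp.comap_subtype
  obtain ⟨S, hS⟩ := h1.exists_le_sylow
  refine ⟨(S : Subgroup H).map H.subtype, ?_, Subgroup.map_subtype_le _, S.2.map _, ?_⟩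
  · intro t ht
    exact ⟨⟨t, hT ht⟩, hS (Subgroup.mem_subgroupOf.2 ht), rfl⟩
  · rw [Cfsg.Agent.Cop.card_map_subtype]; exact S.card_eq_multiplicity

theorem pg_card_le {p : ℕ} [hp : Fact p.Prime] {T H : Subgroup G} (hT : T ≤ H) (hTp : IsPGroup p T) :
    Nat.card T ≤ p ^ v p H := by
  obtain ⟨S, h1, h2⟩ := Sy.exists_ge hT hTp
  rw [← h2.card]
  exact Subgroup.card_le_of_le h1

theorem Sy.eq_of_le {p : ℕ} [hp : Fact p.Prime] {S T H : Subgroup G} (h : Sy p S H) (hST : S ≤ T) (hT : T ≤ H)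
    (hTp : IsPGroup p T) : S = T :=
  Subgroup.eq_of_le_of_card_ge hST (by rw [h.card]; exact pg_card_le hT hTp)

theorem Sy.normal_le {p : ℕ} [hp : Fact p.Prime] {S N H : Subgroup G} (h : Sy p S H) (hN : N ≤ H)
    (hNp : IsPGroup p N) (hn : S ≤ Subgroup.normalizer (N : Set G)) : N ≤ S := by
  have h1 : IsPGroup p (S ⊔ N : Subgroup G) := IsPGroup.to_sup_of_normal_right' h.pg hNp hn
  have h2 := h.eq_of_le le_sup_left (sup_le h.le hN) h1
  rw [h2]
  exact le_sup_right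

theorem Sy.of_v {p : ℕ} {S H K : Subgroup G} (h : Sy p S H) (hK : S ≤ K) (hv : v p H = v p K) : Sy p S K :=
  ⟨hK, h.pg, by rw [h.card, hv]⟩

theorem pe_of_pg {p : ℕ} {S : Subgroup G} (h : IsPGroup p S) {x : G} (hx : x ∈ S) : PE p x := by
  obtain ⟨k, hk⟩ := h ⟨x, hx⟩
  exact ⟨k, by simpa using congrArg Subtype.val hk⟩

theorem pg_zpowers {p : ℕ} {x : G} (h : PE p x) : IsPGroup p (Subgroup.zpowers x) := by
  obtain ⟨k, hk⟩ := h
  intro y
  obtain ⟨i, hi⟩ := Subgroup.mem_zpowers_iff.1 y.2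
  refine ⟨k, Subtype.ext ?_⟩
  show (y : G) ^ p ^ k = 1
  rw [← hi, ← zpow_natCast, ← zpow_mul, mul_comm, zpow_mul, zpow_natCast, hk, one_zpow]

theorem Sy.exists_mem {p : ℕ} [hp : Fact p.Prime] {x : G} {H : Subgroup G} (hx : x ∈ H) (h : PE p x) :
    ∃ S, x ∈ S ∧ Sy p S H := by
  obtain ⟨S, h1, h2⟩ := Sy.exists_ge (Subgroup.zpowers_le.2 hx) (pg_zpowers h)
  exact ⟨S, h1 (Subgroup.mem_zpowers x), h2⟩

theorem Sy.conj {p : ℕ} [hp : Fact p.Prime] {S T : Subgroup G} (hS : Sy p S ⊤) (hT : Sy p T ⊤) :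
    ∃ g : G, ∀ s ∈ S, g * s * g⁻¹ ∈ T := by
  have e : v p (⊤ : Subgroup G) = (Nat.card G).factorization p := by
    rw [v, Subgroup.card_top]
  let S' : Sylow p G := Sylow.ofCard S (by rw [hS.card, e])
  let T' : Sylow p G := Sylow.ofCard T (by rw [hT.card, e])
  obtain ⟨g, hg⟩ := MulAction.exists_smul_eq G S' T'
  refine ⟨g, fun s hs => ?_⟩
  have h1 : g * s * g⁻¹ ∈ (g • S' : Sylow p G) := by
    show g * s * g⁻¹ ∈ (MulAut.conj g • (S' : Subgroup G))
    exact ⟨s, hs, rfl⟩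
  rw [hg] at h1
  exact h1

/-- a subgroup with more `p`-part than the center has a noncentral `p`-element -/
theorem exists_nc {p : ℕ} [hp : Fact p.Prime] {H : Subgroup G} (h : v p (Subgroup.center G) < v p H) :
    ∃ x ∈ H, PE p x ∧ x ∉ Subgroup.center G := by
  by_contra hne
  push Not at hne
  obtain ⟨S, -, hS⟩ := Sy.exists_ge (p := p) (bot_le : (⊥ : Subgroup G) ≤ H) IsPGroup.of_bot
  have h1 : S ≤ Subgroup.center G := fun s hs => hne s (hS.le hs) (pe_of_pg hS.pg hs)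
  have h2 := pg_card_le h1 hS.pg
  rw [hS.card] at h2
  exact absurd h (not_lt.2 ((Nat.pow_le_pow_iff_right hp.out.one_lt).1 h2))

theorem lt_of_nc {p : ℕ} [hp : Fact p.Prime] {H : Subgroup G} (hZ : Subgroup.center G ≤ H) {x : G} (hx : x ∈ H)
    (hxp : PE p x) (hxz : x ∉ Subgroup.center G) : v p (Subgroup.center G) < v p H := by
  obtain ⟨S, hxS, hS⟩ := Sy.exists_mem hx hxp
  obtain ⟨Z0, -, h0⟩ := Sy.exists_ge (p := p) (bot_le : (⊥ : Subgroup G) ≤ Subgroup.center G) IsPGroup.of_bot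
  have hn : Z0.Normal := Cfsg.Agent.Solv.normal_of_le_center h0.le
  have h1 : Z0 ≤ S := hS.normal_le (h0.le.trans hZ) h0.pg (by rw [Subgroup.normalizer_eq_top]; exact le_top)
  have h2 : Nat.card Z0 < Nat.card S := by
    apply lt_of_le_of_ne (Subgroup.card_le_of_le h1)
    intro he
    have h3 := Subgroup.eq_of_le_of_card_ge h1 he.ge
    exact hxz (h0.le (h3 ▸ hxS))
  rw [h0.card, hS.card] at h2
  exact (Nat.pow_lt_pow_iff_right hp.out.one_lt).1 h2

theorem v_add (r : ℕ) (g : G) : (cs g).factorization r + v r (cz g) = v r (⊤ : Subgroup G) := by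
  rw [v, v, Subgroup.card_top, ← cs_mul_card g, Nat.factorization_mul (cs_ne_zero g) Nat.card_pos.ne']
  rfl

theorem center_le_cz (g : G) : Subgroup.center G ≤ cz g := by
  intro z hz
  rw [mem_cz]
  exact (Subgroup.mem_center_iff.1 hz g).symm

theorem PE.conj {p : ℕ} {x : G} (h : PE p x) (g : G) : PE p (g * x * g⁻¹) := by
  obtain ⟨k, hk⟩ := h
  exact ⟨k, by rw [conj_pow, hk, mul_one, mul_inv_cancel]⟩

end Cfsg.Agent.Mdx.FcC2
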