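import Cfsg.Agent.Mdx.ZP1
import Cfsg.Agent.Cop.Basic

set_option autoImplicit false

namespace Cfsg.Agent.Mdx.ZP

open Subgroup Cfsg

variable {G : Type*} [Group G] [Finite G] {p : ℕ} [hp : Fact p.Prime]

variable {x : G} (hx : orderOf x = p) (hiso : IsIsolated x) (hnz : ¬ InZStar p x)
  (hmin : ∀ (H : Subgroup G) (hxH : x ∈ H), H ≠ ⊤ → InZStar p (⟨x, hxH⟩ : ↥H))
  (hquot : ∀ (N : Subgroup G) [N.Normal], N ≠ ⊥ → InZStar p (QuotientGroup.mk x : G ⧸ N))

include hx hiso in
/-- Two `x`-invariant conjugate subgroups are conjugate in the centralizer of `x`. -/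
theorem trans_conj {S₁ S₂ : Subgroup G} (h1 : x ∈ normalizer (S₁ : Set G))
    (h2 : x ∈ normalizer (S₂ : Set G)) {g : G} (hg : S₁.map (MulAut.conj g).toMonoidHom = S₂) :
    ∃ c ∈ centralizer ({x} : Set G), S₁.map (MulAut.conj c).toMonoidHom = S₂ := by
  have h3 : g * x * g⁻¹ ∈ normalizer (S₂ : Set G) := by
    rw [mem_normalizer_iff]
    intro y
    have key : ∀ y, y ∈ S₂ ↔ g⁻¹ * y * g ∈ S₁ := by
      intro y
      rw [← hg]
      constructor
      · rintro ⟨s, hs, rfl⟩
        change g⁻¹ * (g * s * g⁻¹) * g ∈ S₁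
        rwa [show g⁻¹ * (g * s * g⁻¹) * g = s by group]
      · intro h
        refine ⟨_, h, ?_⟩
        change g * (g⁻¹ * y * g) * g⁻¹ = y
        group
    rw [key, key, mem_normalizer_iff.1 h1]
    rw [show x * (g⁻¹ * y * g) * x⁻¹ = g⁻¹ * (g * x * g⁻¹ * y * (g * x * g⁻¹)⁻¹) * g by group]
  obtain ⟨k, hk, hkx⟩ := H49.isolated_conj_in (ppow hx) hiso h2 h3
  refine ⟨k * g, ?_, ?_⟩
  · rw [mem_centralizer_iff]
    rintro y rfl
    calc y * (k * g) = ((k * g) * y * (k * g)⁻¹) * (k * g) := by rw [hkx]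
      _ = (k * g) * y := by group
  · have e : (MulAut.conj (k * g)).toMonoidHom
        = (MulAut.conj k).toMonoidHom.comp (MulAut.conj g).toMonoidHom := by
      ext y
      simp [MulAut.conj_apply, mul_assoc]
    rw [e, ← map_map, hg]
    ext y
    constructor
    · rintro ⟨s, hs, rfl⟩
      exact (mem_normalizer_iff.1 hk s).1 hs
    · intro hy
      refine ⟨k⁻¹ * y * k, ?_, ?_⟩
      · have := (mem_normalizer_iff.1 (inv_mem hk) y).1 hy
        simpa using this
      · change k * (k⁻¹ * y * k) * k⁻¹ = y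
        group

include hx hiso hnz hmin hquot in
theorem no_normal_pgroup {q : ℕ} [hq : Fact q.Prime] {Q : Subgroup G} [Q.Normal] (hQ : IsPGroup q Q) :
    Q = ⊥ := by
  by_contra hne
  have h1 := comm_le hx hiso hnz hmin hquot hne
  have h2 : IsPGroup q (_root_.commutator G) := hQ.to_le h1
  have h3 := simple hx hiso hnz hmin hquot
  haveI : Nontrivial ↥(_root_.commutator G) := h3.toNontrivial
  have h4 := h2.center_nontrivial
  rcases h3.eq_bot_or_eq_top_of_normal (center ↥(_root_.commutator G)) inferInstance with h | h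
  · rw [h] at h4
    exact not_nontrivial _ h4
  · apply not_comm hx hiso hnz hmin hquot
    refine ⟨⟨fun a b => ?_⟩⟩
    have : b ∈ center ↥(_root_.commutator G) := by rw [h]; trivial
    exact mem_center_iff.1 this a

include hx hiso hnz hmin hquot in
theorem max_inv {q : ℕ} [hq : Fact q.Prime] {Q : Subgroup G} (hQ : IsPGroup q Q)
    (hxQ : x ∈ normalizer (Q : Set G))
    (hmax : ∀ R : Subgroup G, IsPGroup q ↥R → x ∈ normalizer (R : Set G) → Q ≤ R → R = Q) :
    Q = ⊥ ∨ ∃ S : Sylow q G, (S : Subgroup G) = Q := by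
  by_cases hqp : q = p
  · subst hqp
    right
    have h1 : IsPGroup q (Q ⊔ zpowers x : Subgroup G) :=
      hQ.to_sup_of_normal_left' (H49.isPGroup_zpowers (ppow hx)) (by rwa [zpowers_le])
    obtain ⟨S, hS⟩ := h1.exists_le_sylow
    have hxS : x ∈ (S : Subgroup G) := hS (mem_sup_right (mem_zpowers x))
    exact ⟨S, hmax S S.2 (le_normalizer hxS) (le_sup_left.trans hS)⟩
  by_cases hQ1 : Q = ⊥
  · exact Or.inl hQ1
  right
  set N := normalizer (Q : Set G) with hN
  have hQN : Q ≤ N := le_normalizer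
  have hNt : N ≠ ⊤ := by
    intro h
    have : Q.Normal := normalizer_eq_top_iff.1 h
    exact hQ1 (no_normal_pgroup hx hiso hnz hmin hquot hQ)
  have hz := hmin N hxQ hNt
  set C := (pPrimeCore p N).map N.subtype with hC
  obtain ⟨T0⟩ : Nonempty (Sylow q N) := inferInstance
  set T := (T0 : Subgroup N).map N.subtype with hT
  have hTN : T ≤ N := map_subtype_le _
  have hCN : C ≤ N := map_subtype_le _
  have hNC : N ≤ normalizer (C : Set G) := by
    intro n hn
    rw [mem_normalizer_iff]
    have key : ∀ n ∈ N, ∀ c ∈ C, n * c * n⁻¹ ∈ C := by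
      rintro n hn _ ⟨c, hc, rfl⟩
      exact ⟨_, Normal.conj_mem (inferInstance : (pPrimeCore p N).Normal) c hc ⟨n, hn⟩, rfl⟩
    intro c
    refine ⟨key n hn c, fun h => ?_⟩
    have := key n⁻¹ (inv_mem hn) _ h
    rwa [show n⁻¹ * (n * c * n⁻¹) * n⁻¹⁻¹ = c by group] at this
  set H := C ⊔ T with hH
  have hHN : H ≤ N := sup_le hCN hTN
  have hcardC : (Nat.card C).Coprime p := by
    rw [hC, card_map_of_injective N.subtype_injective]
    exact Solv.pPrimeCore_card_coprime p
  have hTq : IsPGroup q T := T0.2.map _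
  have hcardH : (Nat.card H).Coprime p := by
    have h1 : Nat.card (C ⊔ T : Subgroup G) ∣ Nat.card C * Nat.card T := by
      have e1 : (C ⊔ T : Subgroup G) = ((C.subgroupOf N) ⊔ (T.subgroupOf N)).map N.subtype := by
        rw [Subgroup.map_sup, subgroupOf_map_subtype, subgroupOf_map_subtype,
          inf_eq_left.2 hCN, inf_eq_left.2 hTN]
      haveI : (C.subgroupOf N).Normal := (normal_subgroupOf_iff_le_normalizer hCN).2 hNC
      have h2 := Solv.card_sup_dvd_of_normal (T.subgroupOf N) (C.subgroupOf N)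
      rw [e1, card_map_of_injective N.subtype_injective, sup_comm]
      rwa [Nat.card_congr (subgroupOfEquivOfLe hTN).toEquiv,
        Nat.card_congr (subgroupOfEquivOfLe hCN).toEquiv, mul_comm] at h2
    refine Nat.Coprime.coprime_dvd_left h1 (Nat.Coprime.mul_left hcardC ?_)
    obtain ⟨k, hk⟩ := IsPGroup.iff_card.1 hTq
    rw [hk]
    exact Nat.Coprime.pow_left k ((Nat.coprime_primes hq.out hp.out).2 hqp)
  have hxH : x ∈ normalizer (H : Set G) := by
    have key : ∀ y : G, y ∈ N → (y ∈ H ↔ x * y * x⁻¹ ∈ H) := by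
      intro y hy
      have h1 : y * x * y⁻¹ * x⁻¹ ∈ C := ⟨_, hz ⟨y, hy⟩, rfl⟩
      have h2 : (y * x * y⁻¹ * x⁻¹) * (x * y * x⁻¹) = y := by group
      constructor
      · intro h
        have : x * y * x⁻¹ = (y * x * y⁻¹ * x⁻¹)⁻¹ * y := by group
        rw [this]
        exact mul_mem (inv_mem (mem_sup_left h1)) h
      · intro h
        rw [← h2]
        exact mul_mem (mem_sup_left h1) h
    rw [mem_normalizer_iff]
    intro y
    by_cases hy : y ∈ N
    · exact key y hy
    · constructor
      · intro h; exact absurd (hHN h) hy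
      · intro h
        have h1 := hHN h
        exact absurd ((by
          have := mul_mem (mul_mem (inv_mem hxQ) h1) hxQ
          rwa [show x⁻¹ * (x * y * x⁻¹) * x = y by group] at this : y ∈ N)) hy
  obtain ⟨P, hP⟩ := Cop.exists_invariant_sylow (A := zpowers x) (K := H) (by rwa [zpowers_le])
    (by rw [Nat.card_zpowers, hx]; exact hcardH.symm)
    (Or.inl (by
      have : IsPGroup p (zpowers x) := H49.isPGroup_zpowers (ppow hx)
      haveI := this.isNilpotent
      infer_instance)) q
  set R := (P : Subgroup H).map H.subtype with hR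
  have hRH : R ≤ H := map_subtype_le _
  have hRq : IsPGroup q R := P.2.map _
  have hQn : (Q.subgroupOf N).Normal := (normal_subgroupOf_iff_le_normalizer hQN).2 le_rfl
  have hQT : Q ≤ T := by
    have h1 : Q.subgroupOf N ≤ (T0 : Subgroup N) :=
      H49.normal_pgroup_le_sylow hQn (hQ.comap_of_injective _ N.subtype_injective) T0
    have h2 := Subgroup.map_mono (f := N.subtype) h1
    rwa [subgroupOf_map_subtype, inf_eq_left.2 hQN] at h2
  have hQH : Q ≤ H := hQT.trans le_sup_right
  have hQR : Q ≤ R := by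
    have hn : (Q.subgroupOf H).Normal := (normal_subgroupOf_iff_le_normalizer hQH).2 hHN
    have h1 : Q.subgroupOf H ≤ (P : Subgroup H) :=
      H49.normal_pgroup_le_sylow hn (hQ.comap_of_injective _ H.subtype_injective) P
    have h2 := Subgroup.map_mono (f := H.subtype) h1
    rwa [subgroupOf_map_subtype, inf_eq_left.2 hQH] at h2
  have hRQ : R = Q := hmax R hRq (hP (mem_zpowers x)) hQR
  have hRidx : ¬ q ∣ R.relIndex N := by
    have h1 : R.relIndex H * H.relIndex N = R.relIndex N := relIndex_mul_relIndex R H N hRH hHN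
    rw [← h1, hq.out.dvd_mul, not_or]
    constructor
    · have h2 : R.relIndex H = (P : Subgroup H).index := by
        rw [relIndex, hR]
        congr 1
        exact comap_map_eq_self_of_injective H.subtype_injective _
      rw [h2]
      exact P.not_dvd_index
    · have h2 : H.relIndex N ∣ T.relIndex N := relIndex_dvd_of_le_left N le_sup_right
      have h3 : T.relIndex N = (T0 : Subgroup N).index := by
        rw [relIndex, hT]
        congr 1
        exact comap_map_eq_self_of_injective N.subtype_injective _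
      intro h
      have h4 := h.trans h2
      rw [h3] at h4
      exact T0.not_dvd_index h4
  rw [hRQ] at hRidx
  obtain ⟨k, hk⟩ := IsPGroup.iff_card.1 hQ
  have h5 := Sylow.card_quotient_normalizer_modEq_card_quotient hk
  have h6 : ¬ q ∣ Q.index := by
    intro h
    apply hRidx
    have h7 : Q.index % q = 0 := Nat.mod_eq_zero_of_dvd h
    apply Nat.dvd_of_mod_eq_zero
    rw [← h7]
    exact h5
  exact ⟨hQ.toSylow h6, rfl⟩

end Cfsg.Agent.Mdx.ZP
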