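import Cfsg.Agent.H62.Subnormal

/-!
Conjugates, subnormality in an ambient group, and subgroups generated by their own conjugates of a
given subgroup.
-/

set_option autoImplicit false

namespace Cfsg.Agent.Mdx.ZL

open Subgroup

variable {G : Type*} [Group G]

/-- conjugate subgroup `g A g⁻¹` -/
def cj (g : G) (A : Subgroup G) : Subgroup G := A.map (MulAut.conj g).toMonoidHom

theorem mem_cj {g x : G} {A : Subgroup G} : x ∈ cj g A ↔ g⁻¹ * x * g ∈ A := by
  constructor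
  · rintro ⟨a, ha, rfl⟩
    change g⁻¹ * (g * a * g⁻¹) * g ∈ A
    rwa [show g⁻¹ * (g * a * g⁻¹) * g = a by group]
  · intro h
    refine ⟨_, h, ?_⟩
    change g * (g⁻¹ * x * g) * g⁻¹ = x
    group

theorem cj_mul (g h : G) (A : Subgroup G) : cj (g * h) A = cj g (cj h A) := by
  ext x
  rw [mem_cj, mem_cj, mem_cj]
  rw [show (g * h)⁻¹ * x * (g * h) = h⁻¹ * (g⁻¹ * x * g) * h by group]

theorem cj_one (A : Subgroup G) : cj 1 A = A := by
  ext x
  rw [mem_cj]
  simp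

theorem cj_inv_cj (g : G) (A : Subgroup G) : cj g⁻¹ (cj g A) = A := by
  rw [← cj_mul, inv_mul_cancel, cj_one]

theorem cj_cj_inv (g : G) (A : Subgroup G) : cj g (cj g⁻¹ A) = A := by
  rw [← cj_mul, mul_inv_cancel, cj_one]

theorem cj_mono {g : G} {A B : Subgroup G} (h : A ≤ B) : cj g A ≤ cj g B := map_mono h

theorem le_cj_iff {g : G} {A B : Subgroup G} : A ≤ cj g B ↔ cj g⁻¹ A ≤ B := by
  constructor
  · intro h
    have := cj_mono (g := g⁻¹) h
    rwa [cj_inv_cj] at this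
  · intro h
    have := cj_mono (g := g) h
    rwa [cj_cj_inv] at this

theorem cj_le_iff {g : G} {A B : Subgroup G} : cj g A ≤ B ↔ A ≤ cj g⁻¹ B := by
  rw [le_cj_iff, inv_inv]

theorem cj_eq_iff {g : G} {A B : Subgroup G} : cj g A = B ↔ A = cj g⁻¹ B := by
  constructor
  · rintro rfl; rw [cj_inv_cj]
  · rintro rfl; rw [cj_cj_inv]

theorem mem_normalizer_iff_cj {g : G} {A : Subgroup G} :
    g ∈ normalizer (A : Set G) ↔ cj g A = A := mem_normalizer_iff_map_conj_eq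

theorem cj_of_mem {g : G} {H : Subgroup G} (hg : g ∈ H) : cj g H = H :=
  mem_normalizer_iff_cj.1 (le_normalizer hg)

theorem cj_top (g : G) : cj g (⊤ : Subgroup G) = ⊤ := cj_of_mem (mem_top g)

theorem cj_ne_top {g : G} {H : Subgroup G} (h : H ≠ ⊤) : cj g H ≠ ⊤ := by
  intro h1
  rw [cj_eq_iff, cj_top] at h1
  exact h h1

theorem isCoatom_cj {g : G} {M : Subgroup G} (h : IsCoatom M) : IsCoatom (cj g M) := by
  refine ⟨cj_ne_top h.1, fun B hB => ?_⟩
  have h1 : M < cj g⁻¹ B := by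
    refine lt_of_le_of_ne (cj_le_iff.1 hB.le) ?_
    intro h2
    exact hB.ne (cj_eq_iff.2 h2)
  have h2 := h.2 _ h1
  rw [cj_eq_iff, cj_top] at h2
  exact h2

theorem card_cj (g : G) (A : Subgroup G) : Nat.card (cj g A) = Nat.card A :=
  card_map_of_injective (MulAut.conj g).injective

theorem cj_eq_of_le [Finite G] {g : G} {A : Subgroup G} (h : cj g A ≤ A) : cj g A = A :=
  eq_of_le_of_card_ge h (card_cj g A).ge

/-! ### Subnormality in the ambient group -/

/-- `X` is a subnormal subgroup of `H`. -/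
def SN (X H : Subgroup G) : Prop := X ≤ H ∧ (X.subgroupOf H).IsSubnormal

theorem SN.refl (H : Subgroup G) : SN H H := ⟨le_rfl, by rw [subgroupOf_self]; exact IsSubnormal.top⟩

theorem SN.mono {X H K : Subgroup G} (h : SN X K) (hXH : X ≤ H) (hHK : H ≤ K) : SN X H := by
  refine ⟨hXH, ?_⟩
  have h1 := h.2.comap (inclusion hHK)
  have h2 : (X.subgroupOf K).comap (inclusion hHK) = X.subgroupOf H := by
    ext x
    rfl
  rwa [h2] at h1

theorem SN.step {X D H : Subgroup G} (hD : SN D H) (hXD : X ≤ D)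
    (hn : ∀ d ∈ D, ∀ x ∈ X, d * x * d⁻¹ ∈ X) : SN X H := by
  refine ⟨hXD.trans hD.1, IsSubnormal.step _ _ ?_ hD.2 ?_⟩
  · exact comap_mono hXD
  · constructor
    intro x hx d
    rw [mem_subgroupOf, mem_subgroupOf] at hx ⊢
    exact hn d.1.1 d.2 _ hx

theorem SN.sSup [Finite G] {H : Subgroup G} {S : Set (Subgroup G)} (h : ∀ X ∈ S, SN X H) :
    SN (sSup S) H := by
  refine ⟨sSup_le fun X hX => (h X hX).1, ?_⟩
  have e : (SupSet.sSup S).subgroupOf H = SupSet.sSup ((fun X : Subgroup G => X.subgroupOf H) '' S) := by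
    apply le_antisymm
    · have h1 : SupSet.sSup S ≤ (SupSet.sSup ((fun X : Subgroup G => X.subgroupOf H) '' S)).map H.subtype := by
        apply sSup_le
        intro X hX
        have h2 : X.subgroupOf H ≤ SupSet.sSup ((fun X : Subgroup G => X.subgroupOf H) '' S) :=
          le_sSup ⟨X, hX, rfl⟩
        have h3 := map_mono (f := H.subtype) h2
        rwa [subgroupOf_map_subtype, inf_eq_left.2 (h X hX).1] at h3
      intro x hx
      obtain ⟨y, hy, hyx⟩ := h1 hx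
      have : y = x := Subtype.ext hyx
      rwa [← this]
    · apply sSup_le
      rintro _ ⟨X, hX, rfl⟩
      exact comap_mono (le_sSup hX)
  rw [e]
  apply H62.isSubnormal_sSup
  rintro _ ⟨X, hX, rfl⟩
  exact (h X hX).2

theorem SN.sup [Finite G] {H X Y : Subgroup G} (hX : SN X H) (hY : SN Y H) : SN (X ⊔ Y) H := by
  have := SN.sSup (H := H) (S := {X, Y}) (by
    rintro Z (rfl | rfl)
    · exact hX
    · exact hY)
  rwa [sSup_pair] at this

theorem SN.cj {X H : Subgroup G} (h : SN X H) (g : G) : SN (ZL.cj g X) (ZL.cj g H) := by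
  refine ⟨cj_mono h.1, ?_⟩
  let f : H ≃* ↥(ZL.cj g H) :=
    H.equivMapOfInjective (MulAut.conj g).toMonoidHom (MulAut.conj g).injective
  have h1 : ((X.subgroupOf H).map f.toMonoidHom).IsSubnormal := h.2.map f.surjective
  have e : (ZL.cj g X).subgroupOf (ZL.cj g H) = (X.subgroupOf H).map f.toMonoidHom := by
    ext x
    rw [mem_subgroupOf]
    constructor
    · rintro ⟨y, hy, hyx⟩
      refine ⟨⟨y, h.1 hy⟩, hy, ?_⟩
      exact Subtype.ext hyx
    · rintro ⟨y, hy, rfl⟩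
      exact ⟨y, hy, rfl⟩
  rw [e]
  exact h1

/-- chain argument -/
theorem chain {X : Type*} [Group X] {J R : Subgroup X}
    (h : ∀ t : X, (∀ j ∈ J, t * j * t⁻¹ ∈ R) → t ∈ R) {H : Subgroup X} (hH : H.IsSubnormal)
    (hJH : J ≤ H) (hHR : H ≤ R) : R = ⊤ := by
  induction hH with
  | top => exact top_le_iff.1 hHR
  | step H K hle _ hn ih =>
    apply ih (hJH.trans hle)
    intro k hk
    apply h
    intro j hj
    apply hHR
    have := hn.conj_mem ⟨j, hle (hJH hj)⟩ (hJH hj) ⟨k, hk⟩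
    exact this

theorem SN.chain {J M R : Subgroup G} (hJ : SN J M) (hJR : J ≤ R)
    (h : ∀ t ∈ M, ZL.cj t J ≤ R → t ∈ R) : M ≤ R := by
  have h1 := ZL.chain (J := J.subgroupOf M) (R := R.subgroupOf M) (by
    intro t ht
    apply h t t.2
    rintro _ ⟨j, hj, rfl⟩
    exact ht ⟨j, hJ.1 hj⟩ hj) hJ.2 le_rfl (comap_mono hJR)
  exact subgroupOf_eq_top.1 h1

/-! ### Subgroups generated by their own conjugates of `A` -/

/-- `A ≤ D` and no proper normal subgroup of `D` contains `A`. -/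
def Gen (A D : Subgroup G) : Prop :=
  A ≤ D ∧ ∀ N : Subgroup G, N ≤ D → (∀ d ∈ D, ∀ n ∈ N, d * n * d⁻¹ ∈ N) → A ≤ N → N = D

theorem Gen.refl (A : Subgroup G) : Gen A A :=
  ⟨le_rfl, fun _ h _ h1 => le_antisymm h h1⟩

theorem gen_iff {A D : Subgroup G} : Gen A D ↔
    A ≤ D ∧ normalClosure ((A.subgroupOf D : Subgroup ↥D) : Set ↥D) = ⊤ := by
  constructor
  · rintro ⟨h1, h2⟩
    refine ⟨h1, ?_⟩
    set N := normalClosure ((A.subgroupOf D : Subgroup ↥D) : Set ↥D) with hN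
    have h3 := h2 (N.map D.subtype) (map_subtype_le _) (by
      rintro d hd _ ⟨n, hn, rfl⟩
      exact ⟨⟨d, hd⟩ * n * (⟨d, hd⟩ : D)⁻¹, Normal.conj_mem inferInstance n hn _, rfl⟩) (by
      intro a ha
      exact ⟨⟨a, h1 ha⟩, subset_normalClosure ha, rfl⟩)
    rw [eq_top_iff]
    intro x _
    have hx : (x : G) ∈ N.map D.subtype := by rw [h3]; exact x.2
    obtain ⟨y, hy, hyx⟩ := hx
    have : y = x := Subtype.ext hyx
    rwa [← this]
  · rintro ⟨h1, h2⟩
    refine ⟨h1, fun N hN hn hA => le_antisymm hN ?_⟩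
    have h3 : (N.subgroupOf D).Normal := by
      constructor
      intro n hn' d
      exact hn d d.2 _ hn'
    have h4 : normalClosure ((A.subgroupOf D : Subgroup ↥D) : Set ↥D) ≤ N.subgroupOf D :=
      normalClosure_le_normal (fun a ha => hA ha)
    rw [h2, top_le_iff] at h4
    exact subgroupOf_eq_top.1 h4

theorem Gen.cj {A D : Subgroup G} (h : Gen A D) (g : G) : Gen (ZL.cj g A) (ZL.cj g D) := by
  refine ⟨cj_mono h.1, fun N hN hn hA => ?_⟩
  have h1 := h.2 (ZL.cj g⁻¹ N) (by rwa [cj_le_iff, inv_inv]) (by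
    intro d hd n hn'
    rw [mem_cj] at hn' ⊢
    have h2 := hn (g * d * g⁻¹) (by
      rw [mem_cj, show g⁻¹ * (g * d * g⁻¹) * g = d by group]; exact hd) _ hn'
    rwa [show g * d * g⁻¹ * (g⁻¹⁻¹ * n * g⁻¹) * (g * d * g⁻¹)⁻¹
      = g⁻¹⁻¹ * (d * n * d⁻¹) * g⁻¹ by group] at h2) (by rwa [← cj_le_iff])
  rw [← h1, cj_cj_inv]

theorem Gen.trans {A B H : Subgroup G} (h1 : Gen A B) (h2 : Gen B H) : Gen A H := by
  refine ⟨h1.1.trans h2.1, fun N hN hn hA => ?_⟩
  have h3 := h1.2 (N ⊓ B) inf_le_right (fun b hb n hn' =>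
    ⟨hn b (h2.1 hb) n hn'.1, B.mul_mem (B.mul_mem hb hn'.2) (B.inv_mem hb)⟩) (le_inf hA h1.1)
  exact h2.2 N hN hn (inf_eq_right.1 h3)

/-- The proper subgroups generated by their own conjugates of `A`. -/
def Sig (A : Subgroup G) : Set (Subgroup G) := {H | Gen A H ∧ H ≠ ⊤}

/-- Their join. -/
def Y (A : Subgroup G) : Subgroup G := sSup (Sig A)

theorem le_Y {A H : Subgroup G} (h : Gen A H) (h1 : H ≠ ⊤) : H ≤ Y A := le_sSup ⟨h, h1⟩

theorem gen_Y {A : Subgroup G} (hA : A ≠ ⊤) : Gen A (Y A) := by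
  refine ⟨le_Y (Gen.refl A) hA, fun N hN hn hAN => le_antisymm hN ?_⟩
  apply sSup_le
  rintro H ⟨hH, hH1⟩
  have h1 := hH.2 (N ⊓ H) inf_le_right (fun b hb n hn' =>
    ⟨hn b (le_Y hH hH1 hb) n hn'.1, H.mul_mem (H.mul_mem hb hn'.2) (H.inv_mem hb)⟩) (le_inf hAN hH.1)
  exact inf_eq_right.1 h1

theorem Y_mono {A D : Subgroup G} (h : Gen A D) : Y D ≤ Y A :=
  sSup_le_sSup fun _ hH => ⟨h.trans hH.1, hH.2⟩

theorem Y_cj_le (A : Subgroup G) (g : G) : Y (cj g A) ≤ cj g (Y A) := by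
  apply sSup_le
  rintro H ⟨hH, hH1⟩
  rw [le_cj_iff]
  have h1 := hH.cj g⁻¹
  rw [cj_inv_cj] at h1
  exact le_Y h1 (cj_ne_top hH1)

theorem Y_cj (A : Subgroup G) (g : G) : Y (cj g A) = cj g (Y A) := by
  refine le_antisymm (Y_cj_le A g) ?_
  rw [cj_le_iff]
  have := Y_cj_le (cj g A) g⁻¹
  rwa [cj_inv_cj] at this

/-- Every proper overgroup of `A` has a subnormal subgroup generated by its own conjugates
of `A`. -/
theorem exists_D [Finite G] {A H : Subgroup G} (hAH : A ≤ H) : ∃ D, Gen A D ∧ SN D H := by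
  obtain ⟨D, hD⟩ := (Set.toFinite {D : Subgroup G | A ≤ D ∧ SN D H}).exists_minimal
    ⟨H, hAH, SN.refl H⟩
  refine ⟨D, ⟨hD.prop.1, fun N hN hn hAN => le_antisymm hN ?_⟩, hD.prop.2⟩
  exact hD.le_of_le ⟨hAN, hD.prop.2.step hN hn⟩ hN

/-- A subnormal subgroup of `H` containing `B`, where `H` is generated by its conjugates of `B`,
is `H`. -/
theorem SN.eq_of_gen {J B H : Subgroup G} (h : SN J H) (hBJ : B ≤ J) (hB : Gen B H) : J = H := by
  rcases h.2.lt_normal with h1 | ⟨K, hK, hJK, hKt⟩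
  · exact le_antisymm h.1 (subgroupOf_eq_top.1 h1)
  · exfalso
    have h2 := hB.2 (K.map H.subtype) (map_subtype_le _) (by
      rintro d hd _ ⟨n, hn, rfl⟩
      exact ⟨⟨d, hd⟩ * n * (⟨d, hd⟩ : H)⁻¹, hK.conj_mem n hn _, rfl⟩) (by
      intro b hb
      exact ⟨⟨b, h.1 (hBJ hb)⟩, hJK (hBJ hb), rfl⟩)
    apply hKt.ne
    rw [eq_top_iff]
    intro x _
    have hx : (x : G) ∈ K.map H.subtype := by rw [h2]; exact x.2
    obtain ⟨y, hy, hyx⟩ := hx
    have : y = x := Subtype.ext hyx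
    rwa [← this]

end Cfsg.Agent.Mdx.ZL
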